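import Cfsg.Agent.Lib.CosetEnum.Fi22U62.Data

/-!
# A generator of the presented group Fi22 commutes with the longest element of a D6 subgraph
-/

set_option autoImplicit false
set_option maxRecDepth 20000

namespace Cfsg.Lib.CosetEnum.Fi22Trans

/-- The commutator word. -/
def commWord : List Nat :=
  [0, 7, 4, 3, 2, 1, 0, 7, 4, 3, 2, 1, 0, 7, 4, 3, 2, 1, 0, 7, 4, 3, 2, 1, 0, 7, 4, 3, 2, 1, 0, 0, 0, 1, 2, 3, 4, 7, 0, 1, 2, 3, 4, 7, 0, 1, 2, 3, 4, 7, 0, 1, 2, 3, 4, 7, 0, 1, 2, 3, 4, 7]

theorem comm0 : permOK Fi22U62.tabP 9 3510 [commWord] 600 0 = true := by decide +kernel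

theorem comm1 : permOK Fi22U62.tabP 9 3510 [commWord] 600 600 = true := by decide +kernel

theorem comm2 : permOK Fi22U62.tabP 9 3510 [commWord] 600 1200 = true := by decide +kernel

theorem comm3 : permOK Fi22U62.tabP 9 3510 [commWord] 600 1800 = true := by decide +kernel

theorem comm4 : permOK Fi22U62.tabP 9 3510 [commWord] 600 2400 = true := by decide +kernel

theorem comm5 : permOK Fi22U62.tabP 9 3510 [commWord] 510 3000 = true := by decide +kernel

theorem comm_ok : permOK Fi22U62.tabP 9 3510 [commWord] 3510 0 = true :=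
  permOK_append (a := 600) (b := 2910) comm0 (permOK_append (a := 600) (b := 2310) comm1
    (permOK_append (a := 600) (b := 1710) comm2 (permOK_append (a := 600) (b := 1110) comm3
      (permOK_append (a := 600) (b := 510) comm4 comm5))))

end Cfsg.Lib.CosetEnum.Fi22Trans
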